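import Cfsg.Agent.Mrg.Omega.Node.NO3SLevel
import Cfsg.Agent.Mrg.Omega.NO3S.TwoFar.Node
import Cfsg.Agent.Mrg.Omega.NO3S.Dual.Basic
import Cfsg.Agent.Mrg.Omega.NOThree.LL.NoGr
import Cfsg.Agent.Mrg.Omega.NO3S.TwoFar.NoOv
import Cfsg.Agent.Mrg.Omega.NO3S.TwoMid.Final

section


/-!
# The socket `TwoFarF` of `Node/NO3SLevel.lean` (`q = 2`, `n ≥ 3`, `FullK`)

* `zc_eq`, `ptws_eq`, `ptkx_eq` : `Ω₁(Z(S)) = ⟨z⟩`, `PT.ws V ⟨z⟩ = ws V z`, `PT.kx V ⟨z⟩ = kq V z`;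
* `FullK.f1`, `FullK.nn_le` : `FullK` gives (F1) and `N_z = ⟨z⟩`; `fullK_of` : the converse;
* `twoFarF` : `TwoFarF K` from (ML);
* `fullTwo_of` : `FullTwo K` from (F1) and `N_z = ⟨z⟩` (`NTwo K`, `n ≥ 2`).
-/

set_option autoImplicit false

namespace Cfsg.Agent.Omega.NO3S.TwoFar

open Subgroup Cfsg Cfsg.Agent.ZN Cfsg.Agent.MinSimple.Geo Cfsg.Agent.Omega.CaseL Cfsg.Agent.Omega.NO3S.TwoOne
open Cfsg.Agent.Omega.NO3S Cfsg.Agent.Omega.NO3S.Pt Cfsg.Agent.Omega.Frame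
open Cfsg.Agent.Omega.NO3S.Dual (nn mem_nn)
open scoped Pointwise

universe u

section

variable {G : Type u} [Group G]

theorem ptws_eq (V : Subgroup G) (z : G) : PT.ws V (zpowers z) = ws V z := by
  unfold PT.ws ws lines
  congr 1
  ext L
  constructor
  · rintro ⟨⟨g, rfl⟩, hz⟩
    exact ⟨⟨g, conj_smul_eq_cj g V⟩, hz (mem_zpowers z)⟩
  · rintro ⟨⟨g, rfl⟩, hz⟩
    exact ⟨⟨g, (conj_smul_eq_cj g V).symm⟩, zpowers_le.2 hz⟩

theorem ptkx_eq (V : Subgroup G) (z : G) : PT.kx V (zpowers z) = kq V z := by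
  have key : ∀ k ∈ PT.kx V (zpowers z), k ∈ centralizer ({z} : Set G) ∧
      ∀ w ∈ ws V z, k * w * k⁻¹ * w⁻¹ ∈ zpowers z := by
    intro k hk
    rw [PT.mem_kx, ptws_eq] at hk
    exact ⟨mem_centralizer_singleton_iff.2 (hk.1 z (mem_zpowers z)), hk.2⟩
  ext k
  constructor
  · intro hk
    obtain ⟨h1, h2⟩ := key k hk
    refine ⟨h1, h2, fun w hw => ?_⟩
    have h3 := (key k⁻¹ (inv_mem hk)).2 w hw
    rwa [inv_inv] at h3
  · intro hk
    obtain ⟨h1, h2, -⟩ := id hk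
    rw [PT.mem_kx, ptws_eq]
    refine ⟨fun x hx => ?_, h2⟩
    obtain ⟨n, rfl⟩ := mem_zpowers_iff.1 hx
    have h : Commute k z := mem_centralizer_singleton_iff.1 h1
    exact (h.zpow_right n).eq

variable [Finite G] {S : Sylow 2 G} {P : Subgroup G}

/-- `Ω₁(Z(S)) = ⟨z⟩` -/
theorem zc_eq (h : Hyp S P) (hc : Nat.card (zl (S : Subgroup G) P) = 4) {z : G}
    (hz : z ∈ zc (S : Subgroup G)) (hz1 : z ≠ 1) : zc (S : Subgroup G) = zpowers z := by
  have hl := ln_four h hc hz hz1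
  refine le_antisymm (fun t ht => ?_) (zpowers_le.2 hz)
  have h1 := le_centralizer_zc (S : Subgroup G)
  rcases hl.soc t (zc_le _ ht) (by rw [← pow_two]; exact zc_sq ht)
    (fun s hs => (mem_centralizer_iff.1 (h1 hs) t ht).symm) with e | e
  · rw [e]; exact one_mem _
  · rw [e]; exact mem_zpowers z

/-- (F1) -/
theorem f1_of_full {V : Subgroup G} {T : Subgroup G} {z : G} (hl : Ln T V z) (hf : FullK V (zpowers z)) :
    ∃ k ∈ kq V z, k ∉ centralizer (V : Set G) := by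
  obtain ⟨y, hy, hy1, hyz⟩ := hl.exists_y
  have hyn : y ∉ zpowers z := by
    intro e
    rcases (mem_zpowers_iff_of_mul_self hl.zz).1 e with e | e
    · exact hy1 e
    · exact hyz e
  obtain ⟨k, hk, hkz⟩ := hf y (by rw [ptws_eq]; exact hl.V_le_ws hy) hyn z (mem_zpowers z)
  rw [ptkx_eq] at hk
  refine ⟨k, hk, fun hc => hl.z_ne ?_⟩
  rw [← hkz, ← mem_centralizer_iff.1 hc y hy]
  group

/-- `N_z = ⟨z⟩` -/
theorem nn_le_of_full {V : Subgroup G} {z : G} (hz1 : z ≠ 1) (hf : FullK V (zpowers z)) :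
    nn (ws V z) (kq V z) ≤ zpowers z := by
  intro w hw
  rw [mem_nn] at hw
  refine hf.ntr (fun e => hz1 (zpowers_eq_bot.1 e)) (by rw [ptws_eq]; exact hw.1) fun k hk => ?_
  rw [ptkx_eq] at hk
  exact hw.2 k hk

/-- the converse -/
theorem full_of {V : Subgroup G} {z : G} (hzz : z * z = 1) (hz1 : z ≠ 1)
    (hN : nn (ws V z) (kq V z) ≤ zpowers z) : FullK V (zpowers z) := by
  refine fullK_of_ntr ?_ fun w hw hc => hN (mem_nn.2 ⟨?_, fun k hk => hc k ?_⟩)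
  · rw [Nat.card_zpowers, orderOf_eq_prime_iff]
    exact ⟨by rw [pow_two]; exact hzz, hz1⟩
  · rwa [ptws_eq] at hw
  · rwa [ptkx_eq]

end

variable {K : Cls.{u}}

/-- **The socket `TwoFarF`** from (ML). -/
theorem twoFarF (hML : ML.Final.MLK.{u, u}) : NO3S.TwoFarF K := by
  intro G _ _ _ S P h hc hF n y hn hy
  obtain ⟨z, hz1⟩ := Subgroup.ne_bot_iff_exists_ne_one.1
    (MinSimple.Basic.zc_ne_bot S.isPGroup' (h.ctx.sylow_ne_bot S))
  have hz1' : (z : G) ≠ 1 := fun e => hz1 (Subtype.ext e)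
  have hl := ln_four h hc z.2 hz1'
  rw [zc_eq h hc z.2 hz1'] at hF
  have hf := f1_of_full hl hF
  have hfr := fr_four h hc z.2 hz1' hf
  have hcr := cr_of_crit h hc z.2 hz1' hfr hy
  exact (far_false hML hfr (fun p hp => isKGroup_centralizer_pt h hp.ne_one) (nn_le_of_full hz1' hF) hn hcr).elim

variable (K) in
/-- `N_z = ⟨z⟩`, critical distance `n ≥ 2` -/
def NTwo : Prop :=
  ∀ (G : Type u) [Group G] [Finite G], K G → ∀ (S : Sylow 2 G) (P : Subgroup G), Hyp S P →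
    Nat.card (zl (S : Subgroup G) P) = 4 → ∀ z ∈ zc (S : Subgroup G), z ≠ 1 →
      Fr (S : Subgroup G) (zl (S : Subgroup G) P) z →
      ∀ (n : ℕ) (y : G), 2 ≤ n → CritP (S : Subgroup G) P n 1 y →
        Cr (zl (S : Subgroup G) P) n z (y * z * y⁻¹) →
        nn (ws (zl (S : Subgroup G) P) z) (kq (zl (S : Subgroup G) P) z) ≤ zpowers z ∨ IsKnownSimple' G

/-- **`FullTwo`** from (F1) and `N_z = ⟨z⟩` -/
theorem fullTwo_of (h1 : TwoOne.FOneP K) (h2 : NTwo K) : NO3S.FullTwo K := by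
  intro G _ _ hK S P h hc n y hn hy
  obtain ⟨z, hz1⟩ := Subgroup.ne_bot_iff_exists_ne_one.1
    (MinSimple.Basic.zc_ne_bot S.isPGroup' (h.ctx.sylow_ne_bot S))
  have hz1' : (z : G) ≠ 1 := fun e => hz1 (Subtype.ext e)
  rcases h1 G hK S P h hc z z.2 hz1' with hf | hk
  · have hfr := fr_four h hc z.2 hz1' hf
    have hcr := cr_of_crit h hc z.2 hz1' hfr hy
    rcases h2 G hK S P h hc z z.2 hz1' hfr n y hn hy hcr with hN | hk
    · left
      rw [zc_eq h hc z.2 hz1']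
      exact full_of hfr.ln.zz hz1' hN
    · exact Or.inr hk
  · exact Or.inr hk

end Cfsg.Agent.Omega.NO3S.TwoFar

end

section


/-!
# The world W0 is void: the plug into the leaf NO-3S (helper56 #21024)

* `NNLe` : `Fr T V z`, a critical pair at distance `n ≥ 2`, K-group point centralisers: `N_z ≤ ⟨z⟩`;
* `nTwo_of`, `wTwo_of` : the sockets `NTwo K` and `WTwo K` from `NNLe`;
* `fullTwo_of` : `FullTwo K` from (F1) and `NNLe`.
-/

set_option autoImplicit false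

namespace Cfsg.Agent.Omega.NO3S.WZero

open Subgroup Cfsg Cfsg.Agent.ZN Cfsg.Agent.MinSimple.Geo Cfsg.Agent.Omega.CaseL Cfsg.Agent.Omega.NO3S.TwoOne
open Cfsg.Agent.Omega.NO3S Cfsg.Agent.Omega.NO3S.Pt Cfsg.Agent.Omega.Frame
open Cfsg.Agent.Omega.NO3S.Dual (nn mem_nn)

universe u

/-- **`N_z ≤ ⟨z⟩`** if there is a critical pair at distance `n ≥ 2` -/
def NNLe : Prop :=
  ∀ (G : Type u) [Group G] [Finite G] (T V : Subgroup G) (z : G), Fr T V z →
    (∀ p, Col V p p → IsKGroup (centralizer ({p} : Set G))) →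
    ∀ (n : ℕ) (p q : G), 2 ≤ n → Cr V n p q → nn (ws V z) (kq V z) ≤ zpowers z

variable {K : Cls.{u}}

theorem nTwo_of (h : NNLe.{u}) : TwoFar.NTwo K := by
  intro G _ _ _ S P hh hc z hz hz1 hfr n y hn _ hcr
  exact Or.inl (h G _ _ z hfr (fun p hp => TwoFar.isKGroup_centralizer_pt hh hp.ne_one) n _ _ hn hcr)

/-- **the socket `WTwo`** -/
theorem wTwo_of (h : NNLe.{u}) : WTwo K := by
  intro G _ _ hK S P hh hc z hz hz1 f1 n y hn hy
  have hfr := fr_four hh hc hz hz1 f1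
  have hcr := cr_of_crit hh hc hz hz1 hfr hy
  left
  rw [TwoFar.zc_eq hh hc hz hz1]
  exact TwoFar.full_of hfr.ln.zz hz1
    (h G _ _ z hfr (fun p hp => TwoFar.isKGroup_centralizer_pt hh hp.ne_one) n _ _ hn hcr)

/-- **the socket `FullTwo`** from (F1) -/
theorem fullTwo_of (h1 : TwoOne.FOneP K) (h : NNLe.{u}) : NO3S.FullTwo K :=
  TwoFar.fullTwo_of h1 (nTwo_of h)

end Cfsg.Agent.Omega.NO3S.WZero

end

section


/-!
# The world `W0` (#21024 of helper56) from (ML), every critical distance `n ≥ 2`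

* `wz` : `Wz T V z n` (`n ≥ 3`: `world` of `NoD.lean`; `n = 2`: `wz_two`).
-/

set_option autoImplicit false

namespace Cfsg.Agent.Omega.NO3S.WZero

open Subgroup Cfsg Cfsg.Agent.ZN Cfsg.Agent.MinSimple.Geo Cfsg.Agent.Omega.CaseL Cfsg.Agent.Omega.NO3S.TwoOne
open Cfsg.Agent.Omega.NO3S.Pt
open Cfsg.Agent.Omega.ML.Final (MLK)

universe u

variable {G : Type u} [Group G] [Finite G] {T V : Subgroup G} {z : G} {n : ℕ}

theorem wz (hML : MLK.{u, u}) (h : Fr T V z)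
    (hK : ∀ p : G, Col V p p → IsKGroup (centralizer ({p} : Set G))) (hn : 2 ≤ n) : Wz T V z n := by
  have hno := noOv_of_mlk hML h hK
  rcases hn.eq_or_lt with rfl | hn3
  · exact wz_two hML h hK hno
  obtain ⟨m, rfl⟩ := Nat.exists_eq_add_of_le' (show 3 ≤ n from hn3)
  obtain ⟨-, h2, h3⟩ := world (m := m) hML h hK
  exact
    { fr := h
      two := hn
      noov := hno
      nosw := fun p q hc x f hx hxp hf => h2 p q hc x hx.symm hxp f hf
      noD := fun p q r hc hpr hrp _ f k hf hkp _ _ _ hne => h3 p q hc (k * r * k⁻¹)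
        (by
          have h4 := hpr.symm.conj k
          have h5 : k * p * k⁻¹ = p := by rw [hkp, mul_inv_cancel_right]
          rwa [h5] at h4) f hf hne }

end Cfsg.Agent.Omega.NO3S.WZero

end
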